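import Groth.Prelude.Def_RDer

/-! The first edge map is an isomorphism for an acyclic object. -/

open CategoryTheory CategoryTheory.Limits HomologicalComplex

namespace Groth.Agent.RDer24

universe v₁ v₂ v₃ u₁ u₂ u₃

variable {A : Type u₁} [Category.{v₁} A] [Abelian A] [HasInjectiveResolutions A]
  {B : Type u₂} [Category.{v₂} B] [Abelian B] {C : Type u₃} [Category.{v₃} C] [Abelian C]

set_option backward.isDefEq.respectTransparency false in
lemma quasiIsoAt_zero_mapAug (Φ : A ⥤ B) [Φ.Additive] [PreservesFiniteLimits Φ] (X : A) :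
    QuasiIsoAt (RDer.mapAug Φ (injectiveResolution X).ι) 0 := by
  rw [CochainComplex.quasiIsoAt₀_iff, ShortComplex.quasiIso_iff_of_zeros]
  · have hex := RDer.res_exact₀ _ (injectiveResolution X).ι
    have hmono : Mono ((injectiveResolution X).ι.f 0) := inferInstance
    refine ⟨ShortComplex.exact_of_iso ?_ ((hex.map_of_mono_of_preservesKernel Φ hmono
      inferInstance)), ?_⟩
    · refine ShortComplex.isoMk ((singleObjXSelf (ComplexShape.up ℕ) 0 X |> Φ.mapIso) ≪≫
        (singleObjXSelf (ComplexShape.up ℕ) 0 (Φ.obj X)).symm) (Iso.refl _) (Iso.refl _) ?_ ?_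
      · simp [RDer.mapAug]
        exact (Category.id_comp _).trans (Category.id_comp _)
      · simp
    · simp [RDer.mapAug]
      exact ⟨fun a b hab => ((Category.comp_id a).symm.trans hab).trans (Category.comp_id b)⟩
  all_goals simp

set_option backward.isDefEq.respectTransparency false in
lemma quasiIso_mapAug (Φ : A ⥤ B) [Φ.Additive] [PreservesFiniteLimits Φ] (X : A)
    (h : ∀ q : ℕ, 0 < q → IsZero ((Φ.rightDerived q).obj X)) :
    QuasiIso (RDer.mapAug Φ (injectiveResolution X).ι) := by
  refine ⟨fun n => ?_⟩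
  rcases n with _ | n
  · exact quasiIsoAt_zero_mapAug Φ X
  · rw [quasiIsoAt_iff_exactAt]
    · rw [exactAt_iff_isZero_homology]
      exact (h (n + 1) n.succ_pos).of_iso ((injectiveResolution X).isoRightDerivedObj Φ (n + 1)).symm
    · exact exactAt_single_obj _ _ _ _ (Nat.succ_ne_zero n)

lemma isIso_edgeIn [HasInjectiveResolutions B] (Φ : A ⥤ B) [Φ.Additive]
    [Φ.PreservesInjectiveObjects] [PreservesFiniteLimits Φ] (Ψ : B ⥤ C) [Ψ.Additive] (q : ℕ)
    (X : A) (h : ∀ q : ℕ, 0 < q → IsZero ((Φ.rightDerived q).obj X)) :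
    IsIso (RDer.edgeIn Φ Ψ q X) := by
  have := quasiIso_mapAug Φ X h
  let J : InjectiveResolution (Φ.obj X) :=
    { cocomplex := (Φ.mapHomologicalComplex _).obj (injectiveResolution X).cocomplex
      injective := fun n => inferInstance
      ι := RDer.mapAug Φ (injectiveResolution X).ι }
  let I := injectiveResolution (Φ.obj X)
  set g : I.cocomplex ⟶ J.cocomplex := RDer.descToInjectives (𝟙 (Φ.obj X)) I.cocomplex I.ι
    J.cocomplex J.ι with hg
  have hgc : I.ι ≫ g = (CochainComplex.single₀ B).map (𝟙 (Φ.obj X)) ≫ J.ι := by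
    apply from_single_hom_ext
    simp only [hg, comp_f, RDer.ι_descToInjectives_f_zero]
    simp
  have ho : Homotopy g (InjectiveResolution.homotopyEquiv I J).hom :=
    InjectiveResolution.descHomotopy (𝟙 _) _ _ hgc (by simp)
  have hiso : IsIso (homologyMap ((Ψ.mapHomologicalComplex _).map g) q) := by
    rw [(Ψ.mapHomotopy ho).homologyMap_eq q]
    exact ((Ψ.mapHomotopyEquiv (InjectiveResolution.homotopyEquiv I J)).toHomologyIso q).isIso_hom
  unfold RDer.edgeIn
  simp only [homologyFunctor_map]
  exact IsIso.comp_isIso' inferInstance (IsIso.comp_isIso' hiso inferInstance)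

end Groth.Agent.RDer24
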